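import Cfsg.Agent.Lib.ToddCox.O73X.Data0
set_option autoImplicit false
set_option maxRecDepth 100000
namespace Cfsg.Agent.Lib.ToddCox.O73X
def eT_1_3 (j : ℕ) : ℕ := bif Nat.blt j 2 then E_1 else E_2
def eT_0_3 (j : ℕ) : ℕ := bif Nat.blt j 1 then E_0 else (eT_1_3 j)
def eT (j : ℕ) : ℕ := (eT_0_3 j)
noncomputable def chunkF (h : ℕ) : ℕ := Nat.rec (motive := fun _ => ℕ) (eT 0) (fun n _ => eT (Nat.succ n)) h
noncomputable def Eo (r : ℕ) : ℕ := Nat.land (Nat.shiftRight (chunkF (Nat.shiftRight r 8)) (Nat.mul (Nat.land r 255) 54)) 18014398509481983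
def invT : ℕ := 0xffef7cefae78df6d74cf2c70beeb6caeaa689e69648e28607de75c6da6585d65544d24503ce34c2ca2481c61440c2040
def inv (y : ℕ) : ℕ := invOf invT y
def Wt_0_2 (j : ℕ) : List ℕ := bif Nat.blt j 1 then [nat_lit 0, nat_lit 2, nat_lit 0, nat_lit 2] else [nat_lit 0, nat_lit 4, nat_lit 0, nat_lit 4]
def Wt_2_4 (j : ℕ) : List ℕ := bif Nat.blt j 3 then [nat_lit 0, nat_lit 6, nat_lit 0, nat_lit 6] else [nat_lit 0, nat_lit 7, nat_lit 0, nat_lit 7]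
def Wt_0_4 (j : ℕ) : List ℕ := bif Nat.blt j 2 then (Wt_0_2 j) else (Wt_2_4 j)
def Wt_4_6 (j : ℕ) : List ℕ := bif Nat.blt j 5 then [nat_lit 1, nat_lit 5, nat_lit 1, nat_lit 5] else [nat_lit 1, nat_lit 6, nat_lit 1, nat_lit 6]
def Wt_6_8 (j : ℕ) : List ℕ := bif Nat.blt j 7 then [nat_lit 2, nat_lit 4, nat_lit 2, nat_lit 4] else [nat_lit 2, nat_lit 5, nat_lit 2, nat_lit 5]
def Wt_4_8 (j : ℕ) : List ℕ := bif Nat.blt j 6 then (Wt_4_6 j) else (Wt_6_8 j)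
def Wt_0_8 (j : ℕ) : List ℕ := bif Nat.blt j 4 then (Wt_0_4 j) else (Wt_4_8 j)
def Wt_8_10 (j : ℕ) : List ℕ := bif Nat.blt j 9 then [nat_lit 2, nat_lit 6, nat_lit 2, nat_lit 6] else [nat_lit 3, nat_lit 5, nat_lit 3, nat_lit 5]
def Wt_10_12 (j : ℕ) : List ℕ := bif Nat.blt j 11 then [nat_lit 3, nat_lit 7, nat_lit 3, nat_lit 7] else [nat_lit 4, nat_lit 6, nat_lit 4, nat_lit 6]
def Wt_8_12 (j : ℕ) : List ℕ := bif Nat.blt j 10 then (Wt_8_10 j) else (Wt_10_12 j)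
def Wt_12_14 (j : ℕ) : List ℕ := bif Nat.blt j 13 then [nat_lit 4, nat_lit 7, nat_lit 4, nat_lit 7] else [nat_lit 5, nat_lit 7, nat_lit 5, nat_lit 7]
def Wt_15_17 (j : ℕ) : List ℕ := bif Nat.blt j 16 then [nat_lit 1, nat_lit 3, nat_lit 1, nat_lit 3] else [nat_lit 1, nat_lit 4, nat_lit 1, nat_lit 4]
def Wt_14_17 (j : ℕ) : List ℕ := bif Nat.blt j 15 then [nat_lit 6, nat_lit 7, nat_lit 6, nat_lit 7] else (Wt_15_17 j)
def Wt_12_17 (j : ℕ) : List ℕ := bif Nat.blt j 14 then (Wt_12_14 j) else (Wt_14_17 j)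
def Wt_8_17 (j : ℕ) : List ℕ := bif Nat.blt j 12 then (Wt_8_12 j) else (Wt_12_17 j)
def Wt_0_17 (j : ℕ) : List ℕ := bif Nat.blt j 8 then (Wt_0_8 j) else (Wt_8_17 j)
def Wt_17_19 (j : ℕ) : List ℕ := bif Nat.blt j 18 then [nat_lit 1, nat_lit 7, nat_lit 1, nat_lit 7] else [nat_lit 2, nat_lit 3, nat_lit 2, nat_lit 3]
def Wt_19_21 (j : ℕ) : List ℕ := bif Nat.blt j 20 then [nat_lit 3, nat_lit 0, nat_lit 3, nat_lit 0, nat_lit 3, nat_lit 0] else [nat_lit 5, nat_lit 0, nat_lit 5, nat_lit 0, nat_lit 5, nat_lit 0]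
def Wt_17_21 (j : ℕ) : List ℕ := bif Nat.blt j 19 then (Wt_17_19 j) else (Wt_19_21 j)
def Wt_21_23 (j : ℕ) : List ℕ := bif Nat.blt j 22 then [nat_lit 7, nat_lit 2, nat_lit 7, nat_lit 2, nat_lit 7, nat_lit 2] else [nat_lit 3, nat_lit 2, nat_lit 3, nat_lit 2]
def Wt_23_25 (j : ℕ) : List ℕ := bif Nat.blt j 24 then [nat_lit 4, nat_lit 5, nat_lit 4, nat_lit 5] else [nat_lit 4, nat_lit 2, nat_lit 4, nat_lit 2]
def Wt_21_25 (j : ℕ) : List ℕ := bif Nat.blt j 23 then (Wt_21_23 j) else (Wt_23_25 j)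
def Wt_17_25 (j : ℕ) : List ℕ := bif Nat.blt j 21 then (Wt_17_21 j) else (Wt_21_25 j)
def Wt_25_27 (j : ℕ) : List ℕ := bif Nat.blt j 26 then [nat_lit 6, nat_lit 5, nat_lit 6, nat_lit 5, nat_lit 6, nat_lit 5] else [nat_lit 5, nat_lit 2, nat_lit 5, nat_lit 2]
def Wt_27_29 (j : ℕ) : List ℕ := bif Nat.blt j 28 then [nat_lit 2, nat_lit 1, nat_lit 2, nat_lit 1, nat_lit 2, nat_lit 1] else [nat_lit 3, nat_lit 6, nat_lit 3, nat_lit 6]
def Wt_25_29 (j : ℕ) : List ℕ := bif Nat.blt j 27 then (Wt_25_27 j) else (Wt_27_29 j)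
def Wt_29_31 (j : ℕ) : List ℕ := bif Nat.blt j 30 then [nat_lit 2, nat_lit 6, nat_lit 5, nat_lit 7, nat_lit 2, nat_lit 3, nat_lit 3, nat_lit 0, nat_lit 1, nat_lit 4, nat_lit 1, nat_lit 2, nat_lit 6, nat_lit 0, nat_lit 6, nat_lit 0, nat_lit 4, nat_lit 4, nat_lit 3, nat_lit 1] else [nat_lit 6, nat_lit 2, nat_lit 1, nat_lit 3, nat_lit 4, nat_lit 4, nat_lit 0, nat_lit 6, nat_lit 0, nat_lit 6, nat_lit 2, nat_lit 1, nat_lit 4, nat_lit 1, nat_lit 0, nat_lit 3, nat_lit 3, nat_lit 2, nat_lit 7, nat_lit 5]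
def Wt_32_34 (j : ℕ) : List ℕ := bif Nat.blt j 33 then [nat_lit 6, nat_lit 3, nat_lit 6, nat_lit 3] else [nat_lit 5, nat_lit 3, nat_lit 5, nat_lit 3]
def Wt_31_34 (j : ℕ) : List ℕ := bif Nat.blt j 32 then [nat_lit 7, nat_lit 6, nat_lit 7, nat_lit 6] else (Wt_32_34 j)
def Wt_29_34 (j : ℕ) : List ℕ := bif Nat.blt j 31 then (Wt_29_31 j) else (Wt_31_34 j)
def Wt_25_34 (j : ℕ) : List ℕ := bif Nat.blt j 29 then (Wt_25_29 j) else (Wt_29_34 j)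
def Wt_17_34 (j : ℕ) : List ℕ := bif Nat.blt j 25 then (Wt_17_25 j) else (Wt_25_34 j)
def Wt_0_34 (j : ℕ) : List ℕ := bif Nat.blt j 17 then (Wt_0_17 j) else (Wt_17_34 j)
def Wt_34_36 (j : ℕ) : List ℕ := bif Nat.blt j 35 then [nat_lit 6, nat_lit 4, nat_lit 6, nat_lit 4] else [nat_lit 63, nat_lit 2, nat_lit 6, nat_lit 2, nat_lit 6]
def Wt_36_38 (j : ℕ) : List ℕ := bif Nat.blt j 37 then [nat_lit 63, nat_lit 1, nat_lit 63, nat_lit 1] else [nat_lit 3, nat_lit 3, nat_lit 63]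
def Wt_34_38 (j : ℕ) : List ℕ := bif Nat.blt j 36 then (Wt_34_36 j) else (Wt_36_38 j)
def Wt_38_40 (j : ℕ) : List ℕ := bif Nat.blt j 39 then [nat_lit 63, nat_lit 3, nat_lit 4, nat_lit 3, nat_lit 4, nat_lit 3, nat_lit 4] else [nat_lit 63, nat_lit 2, nat_lit 63, nat_lit 2]
def Wt_40_42 (j : ℕ) : List ℕ := bif Nat.blt j 41 then [nat_lit 63, nat_lit 3, nat_lit 63, nat_lit 3] else [nat_lit 63, nat_lit 6, nat_lit 63, nat_lit 6]
def Wt_38_42 (j : ℕ) : List ℕ := bif Nat.blt j 40 then (Wt_38_40 j) else (Wt_40_42 j)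
def Wt_34_42 (j : ℕ) : List ℕ := bif Nat.blt j 38 then (Wt_34_38 j) else (Wt_38_42 j)
def Wt_42_44 (j : ℕ) : List ℕ := bif Nat.blt j 43 then [nat_lit 63, nat_lit 5, nat_lit 63, nat_lit 5] else [nat_lit 63, nat_lit 0, nat_lit 63, nat_lit 0]
def Wt_44_46 (j : ℕ) : List ℕ := bif Nat.blt j 45 then [nat_lit 63, nat_lit 4, nat_lit 63, nat_lit 4] else [nat_lit 63, nat_lit 7, nat_lit 63, nat_lit 7]
def Wt_42_46 (j : ℕ) : List ℕ := bif Nat.blt j 44 then (Wt_42_44 j) else (Wt_44_46 j)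
def Wt_46_48 (j : ℕ) : List ℕ := bif Nat.blt j 47 then [nat_lit 5, nat_lit 5, nat_lit 63] else [nat_lit 63, nat_lit 63, nat_lit 63]
def Wt_49_51 (j : ℕ) : List ℕ := bif Nat.blt j 50 then [nat_lit 63, nat_lit 63, nat_lit 4, nat_lit 63, nat_lit 4, nat_lit 63] else [nat_lit 6, nat_lit 6, nat_lit 63]
def Wt_48_51 (j : ℕ) : List ℕ := bif Nat.blt j 49 then [nat_lit 63, nat_lit 3, nat_lit 63, nat_lit 3, nat_lit 63] else (Wt_49_51 j)
def Wt_46_51 (j : ℕ) : List ℕ := bif Nat.blt j 48 then (Wt_46_48 j) else (Wt_48_51 j)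
def Wt_42_51 (j : ℕ) : List ℕ := bif Nat.blt j 46 then (Wt_42_46 j) else (Wt_46_51 j)
def Wt_34_51 (j : ℕ) : List ℕ := bif Nat.blt j 42 then (Wt_34_42 j) else (Wt_42_51 j)
def Wt_51_53 (j : ℕ) : List ℕ := bif Nat.blt j 52 then [nat_lit 4, nat_lit 4, nat_lit 63] else [nat_lit 63, nat_lit 6, nat_lit 63, nat_lit 6, nat_lit 63]
def Wt_53_55 (j : ℕ) : List ℕ := bif Nat.blt j 54 then [nat_lit 1, nat_lit 1, nat_lit 63] else [nat_lit 63, nat_lit 5, nat_lit 63, nat_lit 5, nat_lit 63]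
def Wt_51_55 (j : ℕ) : List ℕ := bif Nat.blt j 53 then (Wt_51_53 j) else (Wt_53_55 j)
def Wt_55_57 (j : ℕ) : List ℕ := bif Nat.blt j 56 then [nat_lit 1, nat_lit 2, nat_lit 1, nat_lit 2, nat_lit 1, nat_lit 2] else [nat_lit 63, nat_lit 6, nat_lit 5, nat_lit 7, nat_lit 2, nat_lit 3, nat_lit 3, nat_lit 0, nat_lit 1, nat_lit 4, nat_lit 1, nat_lit 2, nat_lit 6, nat_lit 0, nat_lit 6, nat_lit 0, nat_lit 4, nat_lit 4, nat_lit 3, nat_lit 1, nat_lit 2]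
def Wt_57_59 (j : ℕ) : List ℕ := bif Nat.blt j 58 then [nat_lit 2, nat_lit 2, nat_lit 63] else [nat_lit 63, nat_lit 7, nat_lit 63, nat_lit 7, nat_lit 63]
def Wt_55_59 (j : ℕ) : List ℕ := bif Nat.blt j 57 then (Wt_55_57 j) else (Wt_57_59 j)
def Wt_51_59 (j : ℕ) : List ℕ := bif Nat.blt j 55 then (Wt_51_55 j) else (Wt_55_59 j)
def Wt_59_61 (j : ℕ) : List ℕ := bif Nat.blt j 60 then [nat_lit 63, nat_lit 2, nat_lit 63, nat_lit 2, nat_lit 63] else [nat_lit 7, nat_lit 63, nat_lit 7, nat_lit 63]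
def Wt_61_63 (j : ℕ) : List ℕ := bif Nat.blt j 62 then [nat_lit 63, nat_lit 63, nat_lit 5, nat_lit 63, nat_lit 5] else [nat_lit 63, nat_lit 63, nat_lit 6, nat_lit 63, nat_lit 6]
def Wt_59_63 (j : ℕ) : List ℕ := bif Nat.blt j 61 then (Wt_59_61 j) else (Wt_61_63 j)
def Wt_63_65 (j : ℕ) : List ℕ := bif Nat.blt j 64 then [nat_lit 7, nat_lit 7, nat_lit 63] else [nat_lit 63, nat_lit 63, nat_lit 2, nat_lit 63, nat_lit 2, nat_lit 63]
def Wt_66_68 (j : ℕ) : List ℕ := bif Nat.blt j 67 then [nat_lit 63, nat_lit 6, nat_lit 3, nat_lit 7, nat_lit 2, nat_lit 1, nat_lit 0, nat_lit 5, nat_lit 6, nat_lit 3, nat_lit 7, nat_lit 2, nat_lit 1, nat_lit 0, nat_lit 5, nat_lit 6, nat_lit 3, nat_lit 7, nat_lit 2, nat_lit 1, nat_lit 0, nat_lit 5, nat_lit 6, nat_lit 3, nat_lit 7, nat_lit 2, nat_lit 1, nat_lit 0, nat_lit 5, nat_lit 6, nat_lit 3, nat_lit 7, nat_lit 2, nat_lit 1, nat_lit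 0, nat_lit 5, nat_lit 6, nat_lit 3, nat_lit 7, nat_lit 2, nat_lit 1, nat_lit 0, nat_lit 5, nat_lit 6, nat_lit 3, nat_lit 7, nat_lit 2, nat_lit 1, nat_lit 0, nat_lit 5, nat_lit 6, nat_lit 3, nat_lit 7, nat_lit 2, nat_lit 1, nat_lit 0, nat_lit 5, nat_lit 6, nat_lit 3, nat_lit 7, nat_lit 2, nat_lit 1, nat_lit 0, nat_lit 5] else [nat_lit 0, nat_lit 0, nat_lit 63]
def Wt_65_68 (j : ℕ) : List ℕ := bif Nat.blt j 66 then [nat_lit 63, nat_lit 63, nat_lit 63, nat_lit 63] else (Wt_66_68 j)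
def Wt_63_68 (j : ℕ) : List ℕ := bif Nat.blt j 65 then (Wt_63_65 j) else (Wt_65_68 j)
def Wt_59_68 (j : ℕ) : List ℕ := bif Nat.blt j 63 then (Wt_59_63 j) else (Wt_63_68 j)
def Wt_51_68 (j : ℕ) : List ℕ := bif Nat.blt j 59 then (Wt_51_59 j) else (Wt_59_68 j)
def Wt_34_68 (j : ℕ) : List ℕ := bif Nat.blt j 51 then (Wt_34_51 j) else (Wt_51_68 j)
def Wt_0_68 (j : ℕ) : List ℕ := bif Nat.blt j 34 then (Wt_0_34 j) else (Wt_34_68 j)
def Wt (j : ℕ) : List ℕ := (Wt_0_68 j)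
def W (j : ℕ) : List ℕ := bif Nat.blt j 68 then Wt j else []
theorem W_ge (j : ℕ) (h : 68 ≤ j) : W j = [] := by
  unfold W
  rw [blt_false_of_le h]
  rfl
def Hl : List ℕ := []
def isH (y : ℕ) : Bool := List.elem y Hl
def Rb : List (List ℕ) := [[nat_lit 0, nat_lit 0],
  [nat_lit 1, nat_lit 1],
  [nat_lit 1, nat_lit 0, nat_lit 1, nat_lit 0, nat_lit 1, nat_lit 0],
  [nat_lit 2, nat_lit 2],
  [nat_lit 2, nat_lit 0, nat_lit 2, nat_lit 0],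
  [nat_lit 2, nat_lit 1, nat_lit 2, nat_lit 1, nat_lit 2, nat_lit 1],
  [nat_lit 3, nat_lit 3],
  [nat_lit 3, nat_lit 0, nat_lit 3, nat_lit 0, nat_lit 3, nat_lit 0],
  [nat_lit 3, nat_lit 1, nat_lit 3, nat_lit 1],
  [nat_lit 3, nat_lit 2, nat_lit 3, nat_lit 2],
  [nat_lit 4, nat_lit 4],
  [nat_lit 4, nat_lit 0, nat_lit 4, nat_lit 0],
  [nat_lit 4, nat_lit 1, nat_lit 4, nat_lit 1],
  [nat_lit 4, nat_lit 2, nat_lit 4, nat_lit 2],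
  [nat_lit 4, nat_lit 3, nat_lit 4, nat_lit 3, nat_lit 4, nat_lit 3],
  [nat_lit 5, nat_lit 5],
  [nat_lit 5, nat_lit 0, nat_lit 5, nat_lit 0, nat_lit 5, nat_lit 0],
  [nat_lit 5, nat_lit 1, nat_lit 5, nat_lit 1],
  [nat_lit 5, nat_lit 2, nat_lit 5, nat_lit 2],
  [nat_lit 5, nat_lit 3, nat_lit 5, nat_lit 3],
  [nat_lit 5, nat_lit 4, nat_lit 5, nat_lit 4],
  [nat_lit 6, nat_lit 6],
  [nat_lit 6, nat_lit 0, nat_lit 6, nat_lit 0],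
  [nat_lit 6, nat_lit 1, nat_lit 6, nat_lit 1],
  [nat_lit 6, nat_lit 2, nat_lit 6, nat_lit 2],
  [nat_lit 6, nat_lit 3, nat_lit 6, nat_lit 3],
  [nat_lit 6, nat_lit 4, nat_lit 6, nat_lit 4],
  [nat_lit 6, nat_lit 5, nat_lit 6, nat_lit 5, nat_lit 6, nat_lit 5],
  [nat_lit 4, nat_lit 3, nat_lit 0, nat_lit 2, nat_lit 1, nat_lit 0, nat_lit 6, nat_lit 5, nat_lit 0, nat_lit 4, nat_lit 3, nat_lit 0, nat_lit 2, nat_lit 1, nat_lit 0, nat_lit 6, nat_lit 5, nat_lit 0, nat_lit 4, nat_lit 3, nat_lit 0, nat_lit 2, nat_lit 1, nat_lit 0, nat_lit 6, nat_lit 5, nat_lit 0, nat_lit 4, nat_lit 3, nat_lit 0, nat_lit 2, nat_lit 1, nat_lit 0, nat_lit 6, nat_lit 5, nat_lit 0, nat_lit 4, nat_lit 3, nat_lit 0, nat_lit 2, nat_lit 1, nat_lit 0, nat_lit 6, nat_lit 5, nat_lit 0, nat_lit 4, nat_lit 3, nat_lit 0, nat_lit 2, nat_lit 1, nat_lit 0, nat_lit 6, nat_lit 5, nat_lit 0, nat_lit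 4, nat_lit 3, nat_lit 0, nat_lit 2, nat_lit 1, nat_lit 0, nat_lit 6, nat_lit 5, nat_lit 0, nat_lit 4, nat_lit 3, nat_lit 0, nat_lit 2, nat_lit 1, nat_lit 0, nat_lit 6, nat_lit 5, nat_lit 0, nat_lit 4, nat_lit 3, nat_lit 0, nat_lit 2, nat_lit 1, nat_lit 0, nat_lit 6, nat_lit 5, nat_lit 0, nat_lit 4, nat_lit 3, nat_lit 0, nat_lit 2, nat_lit 1, nat_lit 0, nat_lit 6, nat_lit 5, nat_lit 0],
  [nat_lit 7, nat_lit 7],
  [nat_lit 7, nat_lit 0, nat_lit 7, nat_lit 0],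
  [nat_lit 7, nat_lit 1, nat_lit 7, nat_lit 1],
  [nat_lit 7, nat_lit 2, nat_lit 7, nat_lit 2, nat_lit 7, nat_lit 2],
  [nat_lit 7, nat_lit 3, nat_lit 7, nat_lit 3],
  [nat_lit 7, nat_lit 4, nat_lit 7, nat_lit 4],
  [nat_lit 7, nat_lit 5, nat_lit 7, nat_lit 5],
  [nat_lit 7, nat_lit 6, nat_lit 7, nat_lit 6],
  [nat_lit 3, nat_lit 7, nat_lit 2, nat_lit 1, nat_lit 0, nat_lit 5, nat_lit 6, nat_lit 3, nat_lit 7, nat_lit 2, nat_lit 1, nat_lit 0, nat_lit 5, nat_lit 6, nat_lit 3, nat_lit 7, nat_lit 2, nat_lit 1, nat_lit 0, nat_lit 5, nat_lit 6, nat_lit 3, nat_lit 7, nat_lit 2, nat_lit 1, nat_lit 0, nat_lit 5, nat_lit 6, nat_lit 3, nat_lit 7, nat_lit 2, nat_lit 1, nat_lit 0, nat_lit 5, nat_lit 6, nat_lit 3, nat_lit 7, nat_lit 2, nat_lit 1, nat_lit 0, nat_lit 5, nat_lit 6, nat_lit 3, nat_lit 7, nat_lit 2, nat_lit 1, nat_lit 0, nat_lit 5, nat_lit 6, nat_lit 3,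 nat_lit 7, nat_lit 2, nat_lit 1, nat_lit 0, nat_lit 5, nat_lit 6, nat_lit 3, nat_lit 7, nat_lit 2, nat_lit 1, nat_lit 0, nat_lit 5, nat_lit 6],
  [nat_lit 3, nat_lit 3, nat_lit 0, nat_lit 1, nat_lit 4, nat_lit 1, nat_lit 2, nat_lit 6, nat_lit 0, nat_lit 6, nat_lit 0, nat_lit 4, nat_lit 4, nat_lit 3, nat_lit 1, nat_lit 2, nat_lit 6, nat_lit 5, nat_lit 7, nat_lit 2],
  []]
def spT_0_2 (j : ℕ) : ℕ := bif Nat.blt j 1 then nat_lit 0x3a0000002a0000001e0000003a000000060000003a000000060002004c0000000a0000001e000000020000002a000000140000002a000000140000000c0000004e0000001e0000003a00000014000000000000001e0000002a0000000c000000060000201c0000000c0000000200002030000020340000202600002032000020480000804d0002004c000000320000200a00002024000020360000201a000000280000201200002040000020200000200e000000120000003e000000180000001000000048000000460000004400000034000000420000002600000030000000240000001a0000002e000000220000003c0000002c0000001600000008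 else nat_lit 0xc04a0000004e00000006
def spT (j : ℕ) : ℕ := (spT_0_2 j)
def sp (j : ℕ) : ℕ := Nat.land (Nat.shiftRight (spT (Nat.shiftRight j 6)) (Nat.mul (Nat.land j 63) 32)) 4294967295
theorem Eo_lt (r : ℕ) : Eo r < 18014398509481984 := land54_lt _
def cT (j : ℕ) : ℕ := nat_lit 0x0
noncomputable def cChunk (h : ℕ) : ℕ := Nat.rec (motive := fun _ => ℕ) (cT 0) (fun n _ => cT (Nat.succ n)) h
noncomputable def cF (i : ℕ) : ℕ := Nat.land (Nat.shiftRight (cChunk (Nat.shiftRight i 7)) (Nat.mul (Nat.land i 127) 24)) 16777215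
theorem cF_lt (i : ℕ) : cF i < 16777216 := land24_lt _
theorem cF_zero : cF 0 = 0 := by decide +kernel
def nDef : ℕ := 97
def nEv : ℕ := 307
def nW : ℕ := 68
def N : ℕ := 1
def ys : List ℕ := [nat_lit 0, nat_lit 1, nat_lit 2, nat_lit 3, nat_lit 4, nat_lit 5, nat_lit 6, nat_lit 7]
def xw : List ℕ := [nat_lit 3, nat_lit 3, nat_lit 0, nat_lit 1, nat_lit 4, nat_lit 1, nat_lit 2, nat_lit 6, nat_lit 0, nat_lit 6, nat_lit 0, nat_lit 4, nat_lit 4, nat_lit 3, nat_lit 1, nat_lit 2, nat_lit 6, nat_lit 5, nat_lit 7, nat_lit 2]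
end Cfsg.Agent.Lib.ToddCox.O73X
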